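import Mathlib
import Cfsg.Agent.Lib.Zass.STUE
import Cfsg.Agent.Lib.Zass.FinalB

/-! # S3361, front end (helper7): from the setting of S3361 (an injective `ρ : G →* (V ≃ₗ V)`,
transitive and free on the non-zero vectors) to `PU G`, `|G| + 1 = |V|`, and the dichotomy
"some cyclic normal subgroup is irreducible, or `|V| ∈ {25, 49, 121, 529}`" (S0688). -/

set_option autoImplicit false
set_option linter.unusedSectionVars false
set_option linter.unusedVariables false
set_option linter.style.haveILetI false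

namespace Cfsg.Agent.S3361L

open Cfsg.Agent.S3358L Cfsg.Agent.ZassL

universe u v

variable {q : ℕ} [Fact q.Prime] {V : Type v} [AddCommGroup V] [Module (ZMod q) V]
  {G : Type u} [Group G]

/-- the range of `ρ` is regular on the non-zero vectors -/
theorem front_reg (ρ : G →* (V ≃ₗ[ZMod q] V)) (hρ : Function.Injective ρ)
    (htrans : ∀ v w : V, v ≠ 0 → w ≠ 0 → ∃ g : G, ρ g v = w)
    (hreg : ∀ v : V, v ≠ 0 → ∀ g : G, ρ g v = v → g = 1) :
    ∀ v w : V, v ≠ 0 → w ≠ 0 → ∃! h : ρ.range, (h : V ≃ₗ[ZMod q] V) v = w := by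
  intro v w hv hw
  obtain ⟨g, hg⟩ := htrans v w hv hw
  refine ⟨⟨ρ g, g, rfl⟩, hg, ?_⟩
  rintro ⟨_, k, rfl⟩ hk
  apply Subtype.ext
  change ρ k = ρ g
  have hk' : ρ k v = w := hk
  have h1 : ρ (g⁻¹ * k) v = v := by
    rw [map_mul, LinearEquiv.mul_apply, hk', ← hg, ← LinearEquiv.mul_apply, ← map_mul]
    simp
  have h2 := hreg v hv _ h1
  have h3 : k = g := by
    have := congrArg (fun t => g * t) h2
    simpa using this
  rw [h3]

/-- the isomorphism of `G` with the range of `ρ` -/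
noncomputable def frontEquiv (ρ : G →* (V ≃ₗ[ZMod q] V)) (hρ : Function.Injective ρ) :
    G ≃* ρ.range := MonoidHom.ofInjective hρ

theorem frontEquiv_coe (ρ : G →* (V ≃ₗ[ZMod q] V)) (hρ : Function.Injective ρ) (g : G) :
    ((frontEquiv ρ hρ g : ρ.range) : V ≃ₗ[ZMod q] V) = ρ g := rfl

/-- `PU` transports along an injective homomorphism -/
theorem PU_of_injective {G' : Type v} [Group G'] (f : G →* G') (hf : Function.Injective f)
    (hU : PU G') : PU G := by
  intro p a b hp ha hb hab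
  have h1 : orderOf (f a) = p := by rw [orderOf_injective f hf, ha]
  have h2 : orderOf (f b) = p := by rw [orderOf_injective f hf, hb]
  have h3 : f a * f b = f b * f a := by rw [← map_mul, ← map_mul, hab]
  obtain ⟨k, hk⟩ := Subgroup.mem_zpowers_iff.mp (hU p (f a) (f b) hp h1 h2 h3)
  refine Subgroup.mem_zpowers_iff.mpr ⟨k, hf ?_⟩
  rw [map_zpow, hk]

/-- **(F1)** a linear group that is regular on the non-zero vectors has no `C_p × C_p` -/
theorem front_PU [Finite V] [Finite G] (ρ : G →* (V ≃ₗ[ZMod q] V)) (hρ : Function.Injective ρ)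
    (htrans : ∀ v w : V, v ≠ 0 → w ≠ 0 → ∃ g : G, ρ g v = w)
    (hreg : ∀ v : V, v ≠ 0 → ∀ g : G, ρ g v = v → g = 1) : PU G := by
  have hreg' := front_reg ρ hρ htrans hreg
  by_cases hne : ∃ h : ρ.range, h ≠ 1
  · obtain ⟨n, ρ', hn, hfree⟩ := STT_hasFreeRep hreg' hne
    have hU : PU ρ.range := hfree.PU hn
    exact PU_of_injective (frontEquiv ρ hρ).toMonoidHom (frontEquiv ρ hρ).injective hU
  · have hall : ∀ g : G, g = 1 := by
      intro g
      by_contra hg
      apply hne
      refine ⟨frontEquiv ρ hρ g, ?_⟩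
      intro h1
      apply hg
      apply (frontEquiv ρ hρ).injective
      rw [h1, map_one]
    intro p a b hp ha hb hab
    rw [hall a, orderOf_one] at ha
    exact absurd ha.symm hp.ne_one

/-- **(F2)** `|G| + 1 = |V|` -/
theorem front_card [Finite V] [Nontrivial V] (ρ : G →* (V ≃ₗ[ZMod q] V))
    (hρ : Function.Injective ρ)
    (htrans : ∀ v w : V, v ≠ 0 → w ≠ 0 → ∃ g : G, ρ g v = w)
    (hreg : ∀ v : V, v ≠ 0 → ∀ g : G, ρ g v = v → g = 1) : Nat.card G + 1 = Nat.card V := by
  have hreg' := front_reg ρ hρ htrans hreg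
  obtain ⟨v₀, hv₀⟩ := exists_ne (0 : V)
  rw [Nat.card_congr (frontEquiv ρ hρ).toEquiv]
  exact STT_card hreg' hv₀

/-- **(F3)** either some cyclic normal subgroup of `G` is irreducible on `V` (and then `hGL`
gives the semilinear description), or `|V| ∈ {25, 49, 121, 529}` -/
theorem front_P1 [Finite V] [Finite G] (ρ : G →* (V ≃ₗ[ZMod q] V)) (hρ : Function.Injective ρ)
    (htrans : ∀ v w : V, v ≠ 0 → w ≠ 0 → ∃ g : G, ρ g v = w)
    (hreg : ∀ v : V, v ≠ 0 → ∀ g : G, ρ g v = v → g = 1)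
    (hsol : Group.IsSolvable G)
    (hGL : ∀ A : Subgroup G, A.Normal → IsCyclic A →
      (¬ ∃ W : Submodule (ZMod q) V, W ≠ ⊥ ∧ W ≠ ⊤ ∧ ∀ a ∈ A, ∀ v ∈ W, ρ a v ∈ W) →
      ∃ (F : Type) (_ : Field F) (_ : Fintype F) (e : V ≃+ F),
        ∀ g : G, ∃ (a : F) (σ : F ≃+* F), ∀ v : V, e (ρ g v) = a * σ (e v)) :
    (∃ (F : Type) (_ : Field F) (_ : Fintype F) (e : V ≃+ F),
        ∀ g : G, ∃ (a : F) (σ : F ≃+* F), ∀ v : V, e (ρ g v) = a * σ (e v)) ∨
      Nat.card V ∈ ({25, 49, 121, 529} : Set ℕ) := by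
  by_cases hex : ∃ A : Subgroup G, A.Normal ∧ IsCyclic A ∧
      ¬ ∃ W : Submodule (ZMod q) V, W ≠ ⊥ ∧ W ≠ ⊤ ∧ ∀ a ∈ A, ∀ v ∈ W, ρ a v ∈ W
  · obtain ⟨A, hAn, hAc, hW⟩ := hex
    exact Or.inl (hGL A hAn hAc hW)
  · right
    have hreg' := front_reg ρ hρ htrans hreg
    have hsolv : Group.IsSolvable ρ.range :=
      Group.isSolvable_of_surjective (f := ρ.rangeRestrict) ρ.rangeRestrict_surjective
    have hI : ∀ A : Subgroup ρ.range, A.Normal → IsCyclic A →
        ∃ W : Submodule (ZMod q) V, W ≠ ⊥ ∧ W ≠ ⊤ ∧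
          ∀ a ∈ A, ∀ v ∈ W, ((a : ρ.range) : V ≃ₗ[ZMod q] V) v ∈ W := by
      intro A hAn hAc
      -- pull `A` back to `G`
      let e := frontEquiv ρ hρ
      let B : Subgroup G := A.comap e.toMonoidHom
      have hBn : B.Normal := hAn.comap _
      have hBc : IsCyclic B := by
        haveI := hAc
        have hinj : Function.Injective (e.toMonoidHom.subgroupComap A) := by
          intro x y hxy
          apply Subtype.ext
          apply e.injective
          exact congrArg Subtype.val hxy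
        exact isCyclic_of_injective (e.toMonoidHom.subgroupComap A) hinj
      by_contra hno
      apply hex
      refine ⟨B, hBn, hBc, ?_⟩
      rintro ⟨W, hW0, hW1, hW⟩
      apply hno
      refine ⟨W, hW0, hW1, ?_⟩
      intro a ha v hv
      obtain ⟨g, rfl⟩ := e.surjective a
      have hgB : g ∈ B := ha
      exact hW g hgB v hv
    have h := STU_degrees theoremZ_holds hreg' hI hsolv
    simp only [Set.mem_insert_iff, Set.mem_singleton_iff]
    exact h

end Cfsg.Agent.S3361L
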