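import Mathlib
import Cfsg.Agent.Lib.S3361.Front

/-! # S3361, front end, part 2 (helper7): `PB G` (an element of prime order normalizing a
subgroup of prime order centralizes it) in the setting of S3361. -/

set_option autoImplicit false
set_option linter.unusedSectionVars false
set_option linter.unusedVariables false
set_option linter.style.haveILetI false

namespace Cfsg.Agent.S3361L

open Cfsg.Agent.S3358L Cfsg.Agent.ZassL

universe u v

variable {q : ℕ} [Fact q.Prime] {V : Type v} [AddCommGroup V] [Module (ZMod q) V]
  {G : Type u} [Group G]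

/-- `PB` transports along an injective homomorphism -/
theorem PB_of_injective {G' : Type v} [Group G'] (f : G →* G') (hf : Function.Injective f)
    (hB : PB G') : PB G := by
  intro p r a b hp hr ha hb hnorm
  have h1 : orderOf (f a) = p := by rw [orderOf_injective f hf, ha]
  have h2 : orderOf (f b) = r := by rw [orderOf_injective f hf, hb]
  have h3 : f a * f b * (f a)⁻¹ ∈ Subgroup.zpowers (f b) := by
    obtain ⟨k, hk⟩ := Subgroup.mem_zpowers_iff.mp hnorm
    refine Subgroup.mem_zpowers_iff.mpr ⟨k, ?_⟩
    rw [← map_zpow, hk, map_mul, map_mul, map_inv]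
  have h4 := hB p r (f a) (f b) hp hr h1 h2 h3
  apply hf
  rw [map_mul, map_mul, h4]

/-- **(F1')** in a linear group that is regular on the non-zero vectors, an element of prime order
normalizing a subgroup of prime order centralizes it -/
theorem front_PB [Finite V] [Finite G] (ρ : G →* (V ≃ₗ[ZMod q] V)) (hρ : Function.Injective ρ)
    (htrans : ∀ v w : V, v ≠ 0 → w ≠ 0 → ∃ g : G, ρ g v = w)
    (hreg : ∀ v : V, v ≠ 0 → ∀ g : G, ρ g v = v → g = 1) : PB G := by
  have hreg' := front_reg ρ hρ htrans hreg
  by_cases hne : ∃ h : ρ.range, h ≠ 1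
  · obtain ⟨n, ρ', hn, hfree⟩ := STT_hasFreeRep hreg' hne
    haveI : Finite ρ.range := Finite.of_injective (frontEquiv ρ hρ).symm (frontEquiv ρ hρ).symm.injective
    have hB : PB ρ.range := hfree.PB hn
    exact PB_of_injective (frontEquiv ρ hρ).toMonoidHom (frontEquiv ρ hρ).injective hB
  · have hall : ∀ g : G, g = 1 := by
      intro g
      by_contra hg
      apply hne
      refine ⟨frontEquiv ρ hρ g, ?_⟩
      intro h1
      apply hg
      apply (frontEquiv ρ hρ).injective
      rw [h1, map_one]
    intro p r a b hp hr ha hb hnorm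
    rw [hall a, orderOf_one] at ha
    exact absurd ha.symm hp.ne_one

end Cfsg.Agent.S3361L
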