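import Mathlib
import Cfsg.Agent.S0219
import Cfsg.Agent.Lib.S4291.SolvB

/-! # S3361, part (P2a): a solvable `PU`-group of even order has a normal subgroup of index 2
or a normal Z-subgroup with quotient `A₄`. -/

set_option autoImplicit false

namespace Cfsg.Agent.S3361L

open Cfsg.Agent.S4291L Cfsg.Agent.S3358L

universe u

variable {G : Type u} [Group G]

theorem A5_not_solvable : ¬ Group.IsSolvable (alternatingGroup (Fin 5)) := by
  intro h
  have := h
  apply Equiv.Perm.not_isSolvable_fin_5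
  exact Group.isSolvable_of_ker_le_range (alternatingGroup (Fin 5)).subtype
    (Equiv.Perm.sign (α := Fin 5)) (by
      intro x hx
      exact ⟨⟨x, hx⟩, rfl⟩)

theorem S5_not_solvable : ¬ Group.IsSolvable (Equiv.Perm (Fin 5)) := Equiv.Perm.not_isSolvable_fin_5

theorem idx2_of_index2 {Y : Type} [Group Y] (M : Subgroup Y) (hM : M.index = 2) (N : Subgroup G)
    (h : Quo N Y) : ∃ K : Subgroup G, K.Normal ∧ K.index = 2 := by
  obtain ⟨f, hf, -⟩ := h
  refine ⟨M.comap f, ?_, ?_⟩
  · haveI : M.Normal := Subgroup.normal_of_index_eq_two hM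
    infer_instance
  · rw [Subgroup.index_comap_of_surjective M hf, hM]

theorem D2_index2 : ∃ M : Subgroup (DihedralGroup 2), M.index = 2 := by
  refine ⟨Subgroup.zpowers (DihedralGroup.r 1), ?_⟩
  have h1 := Subgroup.index_mul_card (Subgroup.zpowers (DihedralGroup.r (1 : ZMod 2)))
  rw [Nat.card_zpowers, DihedralGroup.orderOf_r_one, DihedralGroup.nat_card] at h1
  omega

theorem S4_index2 : ∃ M : Subgroup (Equiv.Perm (Fin 4)), M.index = 2 :=
  ⟨alternatingGroup (Fin 4), alternatingGroup.index_eq_two⟩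

theorem idx2_of_isZ_top [Finite G] (heven : 2 ∣ Nat.card G) (hZ : IsZ (⊤ : Subgroup G)) :
    ∃ K : Subgroup G, K.Normal ∧ K.index = 2 := by
  haveI : Fact (Nat.Prime 2) := ⟨Nat.prime_two⟩
  have hev : Even (Nat.card (⊤ : Subgroup G)) := by
    rw [Subgroup.card_top]; exact even_iff_two_dvd.mpr heven
  obtain ⟨T⟩ : Nonempty (Sylow 2 (⊤ : Subgroup G)) := inferInstance
  obtain ⟨H, hH⟩ := Cfsg.Agent.S0219.result hev T (hZ 2 T)
  refine ⟨H.map (⊤ : Subgroup G).subtype, ?_, ?_⟩
  · apply Subgroup.normal_of_index_eq_two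
    rw [Subgroup.index_map_subtype, hH, Subgroup.index_top, mul_one]
  · rw [Subgroup.index_map_subtype, hH, Subgroup.index_top, mul_one]

theorem P2_main [Finite G] (hs : Group.IsSolvable G) (hU : PU G) (heven : 2 ∣ Nat.card G) :
    (∃ K : Subgroup G, K.Normal ∧ K.index = 2) ∨
      ∃ N : Subgroup G, N.Normal ∧ IsZ N ∧ Quo N (alternatingGroup (Fin 4)) := by
  obtain ⟨N, hn, hz, hq⟩ := exists_valid_of_solvable hs hU
  rcases hq with h | h | h | h | h | h
  · left
    subst h
    exact idx2_of_isZ_top heven hz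
  · left
    obtain ⟨M, hM⟩ := D2_index2
    exact idx2_of_index2 M hM N h
  · right
    exact ⟨N, hn, hz, h⟩
  · left
    obtain ⟨M, hM⟩ := S4_index2
    exact idx2_of_index2 M hM N h
  · exfalso
    obtain ⟨f, hf, -⟩ := h
    have := hs
    exact A5_not_solvable (solvable_of_surjective hf)
  · exfalso
    obtain ⟨f, hf, -⟩ := h
    have := hs
    exact S5_not_solvable (solvable_of_surjective hf)

end Cfsg.Agent.S3361L
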