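import Mathlib
import Cfsg.Agent.Lib.S4291.UniqB

/-! # S3361, part (P2b): a group of semilinear maps `x ↦ a·σ(x)` of a finite field has no
quotient isomorphic to `A₄`. -/

set_option autoImplicit false

namespace Cfsg.Agent.S3361L

open Cfsg.Agent.S4291L

universe u v

/-- ring automorphisms of a finite field commute -/
theorem ringAut_comm (F : Type) [Field F] [Fintype F] (σ τ : F ≃+* F) (x : F) :
    σ (τ x) = τ (σ x) := by
  obtain ⟨p, hp⟩ := CharP.exists F
  haveI : Fact p.Prime := ⟨CharP.char_is_prime F p⟩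
  letI : Algebra (ZMod p) F := ZMod.algebra F p
  have hcomm : ∀ s : F ≃+* F, ∀ r : ZMod p, s (algebraMap (ZMod p) F r) = algebraMap (ZMod p) F r := by
    intro s r
    have : (s : F →+* F).comp (algebraMap (ZMod p) F) = algebraMap (ZMod p) F :=
      Subsingleton.elim _ _
    exact RingHom.congr_fun this r
  let toAlg : (F ≃+* F) → (F ≃ₐ[ZMod p] F) := fun s => AlgEquiv.ofRingEquiv (f := s) (hcomm s)
  have hc : IsMulCommutative (F ≃ₐ[ZMod p] F) := IsCyclic.isMulCommutative
  have h := hc.is_comm.comm (toAlg σ) (toAlg τ)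
  have h2 := DFunLike.congr_fun h x
  exact h2


/-- a finite group of semilinear maps `x ↦ a·σ(x)` of a finite field has no quotient `A₄` -/
theorem no_A4_of_semilinear {q : ℕ} [Fact q.Prime] {V : Type v} [AddCommGroup V]
    [Module (ZMod q) V] {G : Type u} [Group G] [Finite G]
    (ρ : G →* (V ≃ₗ[ZMod q] V)) (hρ : Function.Injective ρ)
    (h : ∃ (F : Type) (_ : Field F) (_ : Fintype F) (e : V ≃+ F),
        ∀ g : G, ∃ (a : F) (σ : F ≃+* F), ∀ v : V, e (ρ g v) = a * σ (e v)) :
    ¬ ∃ f : G →* alternatingGroup (Fin 4), Function.Surjective f := by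
  obtain ⟨F, _, _, e, h⟩ := h
  choose a σ hσ using h
  have ha : ∀ g, a g ≠ 0 := by
    intro g h0
    have h1 := hσ g (e.symm 1)
    rw [h0, zero_mul] at h1
    have h2 : ρ g (e.symm 1) = 0 := e.injective (h1.trans (map_zero e).symm)
    have h3 : e.symm 1 = 0 := (ρ g).injective (h2.trans (map_zero (ρ g)).symm)
    have h4 : (1 : F) = 0 := by
      have := congrArg e h3
      rwa [AddEquiv.apply_symm_apply, map_zero] at this
    exact one_ne_zero h4
  have hmul : ∀ g h x, a (g * h) * σ (g * h) x = a g * σ g (a h) * σ g (σ h x) := by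
    intro g h x
    have h1 := hσ (g * h) (e.symm x)
    rw [AddEquiv.apply_symm_apply, map_mul, LinearEquiv.mul_apply, hσ g, hσ h,
      AddEquiv.apply_symm_apply, map_mul] at h1
    rw [← h1, mul_assoc]
  have hamul : ∀ g h, a (g * h) = a g * σ g (a h) := by
    intro g h
    have := hmul g h 1
    simpa using this
  have hσmul : ∀ g h x, σ (g * h) x = σ g (σ h x) := by
    intro g h x
    have h1 := hmul g h x
    rw [← hamul g h] at h1
    exact mul_left_cancel₀ (ha (g * h)) h1
  let φ : G →* RingAut F := MonoidHom.mk' σ (fun g h => by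
    apply RingEquiv.ext
    intro x
    exact hσmul g h x)
  have hφ : ∀ g, φ g = σ g := fun g => rfl
  have hK1 : ∀ g ∈ φ.ker, ∀ x, σ g x = x := by
    intro g hg x
    have : φ g = 1 := hg
    rw [hφ] at this
    rw [this]; rfl
  let ψ : φ.ker →* F :=
    { toFun := fun g => a g
      map_one' := by
        have h1 := hσ 1 (e.symm 1)
        rw [map_one] at h1
        change e (e.symm 1) = _ at h1
        rw [AddEquiv.apply_symm_apply, hK1 1 (one_mem _) 1, mul_one] at h1
        exact h1.symm
      map_mul' := by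
        intro g h
        show a ((g : G) * (h : G)) = a g * a h
        rw [hamul, hK1 g g.2] }
  have hψ : Function.Injective ψ := by
    intro g₁ g₂ h12
    have h12' : a (g₁ : G) = a (g₂ : G) := h12
    apply Subtype.ext
    apply hρ
    apply LinearEquiv.ext
    intro v
    apply e.injective
    rw [hσ, hσ, hK1 _ g₁.2, hK1 _ g₂.2, h12']
  have hKc : IsCyclic φ.ker := isCyclic_of_injective_ringHom ψ hψ
  rintro ⟨f, hf⟩
  have hKf : IsCyclic (φ.ker.map f) :=
    isCyclic_of_surjective (f.subgroupMap φ.ker) (f.subgroupMap_surjective φ.ker)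
  have hKn : (φ.ker.map f).Normal := Subgroup.Normal.map inferInstance f hf
  have hbot : φ.ker.map f = ⊥ := bigY_A4 _ hKn ⟨fun p _ P => inferInstance⟩
  have hker : ∀ g ∈ φ.ker, f g = 1 := by
    intro g hg
    have : f g ∈ φ.ker.map f := Subgroup.mem_map_of_mem f hg
    rwa [hbot, Subgroup.mem_bot] at this
  have hcomm : ∀ x y : G, f x * f y = f y * f x := by
    intro x y
    have hmem : x * y * x⁻¹ * y⁻¹ ∈ φ.ker := by
      rw [MonoidHom.mem_ker]
      apply RingEquiv.ext
      intro z
      simp only [map_mul, map_inv, RingAut.mul_apply, RingAut.one_apply]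
      have hxy : ∀ w, φ x (φ y w) = φ y (φ x w) := fun w => ringAut_comm F (φ x) (φ y) w
      rw [hxy]
      simp
    have := hker _ hmem
    rw [map_mul, map_mul, map_mul, map_inv, map_inv] at this
    calc f x * f y = (f x * f y * (f x)⁻¹ * (f y)⁻¹) * (f y * f x) := by group
      _ = f y * f x := by rw [this, one_mul]
  obtain ⟨u, w, huw⟩ := not_comm_of_bigY bigY_A4 not_isZGroup_A4
  obtain ⟨x, rfl⟩ := hf u
  obtain ⟨y, rfl⟩ := hf w
  exact huw (hcomm x y)

end Cfsg.Agent.S3361L
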