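import Mathlib
import Cfsg.Agent.Lib.S4291.UniqC
import Cfsg.Agent.Lib.S4291.UniqGen
import Cfsg.Agent.Lib.S3358.U3

/-! # S3361, part (P2c), reductions: the cases `|G| = 120` and `|G| = 528` of `A4_cases`,
reduced to `|G| = 24` and `|G| = 48` by splitting off a normal Sylow subgroup. -/

set_option autoImplicit false

namespace Cfsg.Agent.S3361L

open Cfsg.Agent.S4291L Cfsg.Agent.S3358L

universe u

variable {G : Type u} [Group G]

/-- a group of order `r * m` with `m ≤ r`, `r` prime, `r ∤ m`, has exactly one Sylow `r`-subgroup -/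
theorem sylow_subsingleton_of_card {X : Type u} [Group X] [Finite X] (r m : ℕ) [Fact r.Prime]
    (hX : Nat.card X = r * m) (hm : m ≤ r) (hm0 : 0 < m) (hrm : ¬ r ∣ m) :
    Subsingleton (Sylow r X) ∧ ∀ P : Sylow r X, Nat.card P = r := by
  have hr : r.Prime := Fact.out
  have hcardP : ∀ P : Sylow r X, Nat.card P = r := by
    intro P
    obtain ⟨k, hk⟩ := (IsPGroup.iff_card.mp P.isPGroup')
    have hdvd : r ∣ Nat.card P := P.dvd_card_of_dvd_card (by rw [hX]; exact dvd_mul_right r m)
    have hk1 : k ≠ 0 := by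
      rintro rfl
      rw [hk, pow_zero] at hdvd
      exact hr.one_lt.ne' (Nat.dvd_one.mp hdvd)
    have hdvd2 : r ^ k ∣ r * m := by rw [← hk, ← hX]; exact Subgroup.card_subgroup_dvd_card _
    have hk2 : k ≤ 1 := by
      by_contra hcon
      push Not at hcon
      have h2 : r ^ 2 ∣ r * m := (pow_dvd_pow r hcon).trans hdvd2
      rw [sq] at h2
      exact hrm (Nat.dvd_of_mul_dvd_mul_left hr.pos h2)
    have : k = 1 := by omega
    rw [hk, this, pow_one]
  refine ⟨?_, hcardP⟩
  obtain ⟨P⟩ : Nonempty (Sylow r X) := inferInstance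
  have h1 : Nat.card (Sylow r X) ≡ 1 [MOD r] := card_sylow_modEq_one r X
  have h2 : Nat.card (Sylow r X) ∣ (P : Subgroup X).index := Sylow.card_dvd_index P
  have hidx : (P : Subgroup X).index = m := by
    have := Subgroup.card_mul_index (P : Subgroup X)
    rw [hcardP P, hX] at this
    exact Nat.eq_of_mul_eq_mul_left hr.pos this
  rw [hidx] at h2
  have hle : Nat.card (Sylow r X) ≤ m := Nat.le_of_dvd hm0 h2
  have hpos : 0 < Nat.card (Sylow r X) := Nat.card_pos
  have hone : Nat.card (Sylow r X) = 1 := by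
    have h3 : Nat.card (Sylow r X) % r = 1 % r := h1
    rw [Nat.mod_eq_of_lt hr.one_lt] at h3
    by_contra hne
    have hlt : Nat.card (Sylow r X) < r ∨ Nat.card (Sylow r X) = r := by omega
    rcases hlt with hlt | heq
    · rw [Nat.mod_eq_of_lt hlt] at h3; exact hne h3
    · rw [heq, Nat.mod_self] at h3; omega
  exact (Nat.card_eq_one_iff_unique.mp hone).1


/-- a normal subgroup `N` of order `r * m` (`m ≤ r`, `r ∤ m`) contains a subgroup of order `r`
which is normal in the whole group -/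
theorem exists_normal_of_card [Finite G] (N : Subgroup G) [hN : N.Normal] (r m : ℕ) [Fact r.Prime]
    (hX : Nat.card N = r * m) (hm : m ≤ r) (hm0 : 0 < m) (hrm : ¬ r ∣ m) :
    ∃ R : Subgroup G, R.Normal ∧ R ≤ N ∧ Nat.card R = r := by
  obtain ⟨hss, hc⟩ := sylow_subsingleton_of_card (X := N) r m hX hm hm0 hrm
  obtain ⟨P⟩ : Nonempty (Sylow r N) := inferInstance
  haveI : (P : Subgroup N).Characteristic := Sylow.characteristic_of_subsingleton P
  refine ⟨(P : Subgroup N).map N.subtype, ConjAct.normal_of_characteristic_of_normal, ?_, ?_⟩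
  · exact Subgroup.map_subtype_le _
  · rw [Subgroup.card_map_of_injective N.subtype_injective]
    exact hc P

/-- splitting off a normal Hall subgroup `R ≤ N`: a complement `L` inherits the hypotheses -/
theorem complement_transfer [Finite G] (N : Subgroup G) (hZ : IsZ N)
    (hq : Quo N (alternatingGroup (Fin 4))) (R : Subgroup G) [R.Normal] (hRN : R ≤ N)
    (hcop : Nat.Coprime (Nat.card R) R.index) :
    ∃ L : Subgroup G, R.IsComplement' L ∧ Nat.card R * Nat.card L = Nat.card G ∧
      (N.subgroupOf L).Normal ∧ IsZ (N.subgroupOf L) ∧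
      Quo (N.subgroupOf L) (alternatingGroup (Fin 4)) := by
  obtain ⟨L, hL⟩ := Subgroup.exists_right_complement'_of_coprime hcop
  obtain ⟨f, hf, hk⟩ := hq
  have hker : (f.comp L.subtype).ker = N.subgroupOf L := by
    ext l
    rw [MonoidHom.mem_ker, Subgroup.mem_subgroupOf, ← hk, MonoidHom.mem_ker]
    rfl
  refine ⟨L, hL, hL.card_mul_card, ?_, ?_, ⟨f.comp L.subtype, ?_, hker⟩⟩
  · rw [← hker]; infer_instance
  · rw [isZ_iff] at hZ ⊢
    let ι : N.subgroupOf L →* N :=
      (L.subtype.comp (N.subgroupOf L).subtype).codRestrict N (fun x => x.2)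
    have hι : Function.Injective ι := by
      intro x y hxy
      have h1 : ((x : L) : G) = ((y : L) : G) := congrArg (fun z : N => (z : G)) hxy
      exact Subtype.ext (Subtype.ext h1)
    exact IsZGroup.of_injective hι
  · intro y
    obtain ⟨g, rfl⟩ := hf y
    obtain ⟨x, hx, -⟩ := Subgroup.isComplement_iff_existsUnique.mp hL g
    refine ⟨x.2, ?_⟩
    have hx1 : f (x.1 : G) = 1 := by
      rw [← MonoidHom.mem_ker, hk]; exact hRN x.1.2
    rw [← hx, map_mul, hx1, one_mul]
    rfl

theorem card_A4 : Nat.card (alternatingGroup (Fin 4)) = 12 := by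
  have h := two_mul_nat_card_alternatingGroup (α := Fin 4)
  rw [Nat.card_perm, Nat.card_eq_fintype_card (α := Fin 4), Fintype.card_fin] at h
  have : Nat.factorial 4 = 24 := by decide
  omega

theorem card_of_quo_A4 [Finite G] (N : Subgroup G) (hq : Quo N (alternatingGroup (Fin 4))) :
    Nat.card N * 12 = Nat.card G := by
  have h := VU_index_of_quo hq
  rw [card_A4] at h
  rw [← h]
  exact Subgroup.card_mul_index N

/-- the case `|G| = 528` reduces to the case `|G| = 48` -/
theorem A4_case528_of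
    (h48 : ∀ {X : Type u} [Group X] [Finite X], PU X → ∀ M : Subgroup X, M.Normal → IsZ M →
      Quo M (alternatingGroup (Fin 4)) → Nat.card X = 48 → False)
    [Finite G] (hU : PU G) (N : Subgroup G) (hN : N.Normal) (hZ : IsZ N)
    (hq : Quo N (alternatingGroup (Fin 4))) (h : Nat.card G = 528) : False := by
  haveI : Fact (Nat.Prime 11) := ⟨by norm_num⟩
  have hcN : Nat.card N = 11 * 4 := by
    have := card_of_quo_A4 N hq
    omega
  obtain ⟨R, hRn, hRN, hRc⟩ := exists_normal_of_card N 11 4 hcN (by norm_num) (by norm_num)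
    (by norm_num)
  have hidx : R.index = 48 := by
    have := Subgroup.card_mul_index R
    rw [hRc, h] at this
    omega
  obtain ⟨L, -, hcL, hLn, hLZ, hLq⟩ := complement_transfer N hZ hq R hRN
    (by rw [hRc, hidx]; norm_num)
  have hL48 : Nat.card L = 48 := by
    rw [hRc, h] at hcL
    omega
  exact h48 ((U3_subgroup L).1 hU) (N.subgroupOf L) hLn hLZ hLq hL48

/-- if `C` contains all fourth powers of `G` and `f : G → A₄` is onto, then `f(C) = A₄` -/
theorem map_eq_top_of_pow_four (f : G →* alternatingGroup (Fin 4)) (hf : Function.Surjective f)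
    (C : Subgroup G) (hC : ∀ g : G, g ^ 4 ∈ C) : C.map f = ⊤ := by
  rw [eq_top_iff]
  intro y _
  have hcl : Subgroup.closure {σ : Equiv.Perm (Fin 4) | σ.IsThreeCycle} ≤
      (C.map f).map (alternatingGroup (Fin 4)).subtype := by
    rw [Subgroup.closure_le]
    intro σ hσ
    have hσ' : σ.IsThreeCycle := hσ
    have hmem : σ ∈ alternatingGroup (Fin 4) := hσ'.mem_alternatingGroup
    obtain ⟨g, hg⟩ := hf ⟨σ, hmem⟩
    have h3 : σ ^ 3 = 1 := by rw [← hσ'.orderOf]; exact pow_orderOf_eq_one σ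
    have h4 : σ ^ 4 = σ := by rw [pow_succ, h3, one_mul]
    refine ⟨f (g ^ 4), Subgroup.mem_map_of_mem f (hC g), ?_⟩
    rw [map_pow, hg]
    show σ ^ 4 = σ
    exact h4
  rw [Equiv.Perm.closure_three_cycles_eq_alternating] at hcl
  obtain ⟨z, hz, hzy⟩ := hcl y.2
  have : z = y := Subtype.ext hzy
  rwa [this] at hz

/-- a normal subgroup of order `5` inside `N` (of order `10`, `G/N ≅ A₄`) is central -/
theorem central_of_card_five [Finite G] (hB : PB G) (N : Subgroup G)
    (hq : Quo N (alternatingGroup (Fin 4))) (hcN : Nat.card N = 10)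
    (R : Subgroup G) [hRn : R.Normal] (hRN : R ≤ N) (hRc : Nat.card R = 5) :
    ∀ g : G, ∀ c ∈ R, g * c * g⁻¹ = c := by
  haveI : Fact (Nat.Prime 5) := ⟨by norm_num⟩
  haveI : Fact (Nat.Prime 2) := ⟨Nat.prime_two⟩
  haveI hcyc : IsCyclic R := isCyclic_of_prime_card hRc
  obtain ⟨f, hf, hk⟩ := hq
  let π : G →* MulAut R := MulAut.conjNormal
  have hmemC : ∀ g : G, g ∈ π.ker ↔ ∀ c ∈ R, g * c * g⁻¹ = c := by
    intro g
    rw [MonoidHom.mem_ker]
    constructor
    · intro h c hc
      have := congrArg (fun φ : MulAut R => ((φ ⟨c, hc⟩ : R) : G)) h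
      simpa [π, MulAut.conjNormal_apply] using this
    · intro h
      apply MulEquiv.ext
      intro c
      apply Subtype.ext
      rw [MulAut.conjNormal_apply]
      exact h c c.2
  have hcardA : Nat.card (MulAut R) = 4 := by
    rw [IsCyclic.card_mulAut, hRc, Nat.totient_prime (by norm_num)]
  have hC4 : ∀ g : G, g ^ 4 ∈ π.ker := by
    intro g
    rw [MonoidHom.mem_ker, map_pow, ← hcardA]
    exact pow_card_eq_one'
  have htop : π.ker.map f = ⊤ := map_eq_top_of_pow_four f hf π.ker hC4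
  -- `R ≤ C`
  have hRC : R ≤ π.ker := by
    intro g hg
    rw [hmemC]
    intro c hc
    have hcomm : (⟨g, hg⟩ : R) * ⟨c, hc⟩ = ⟨c, hc⟩ * ⟨g, hg⟩ :=
      (IsCyclic.commGroup (α := R)).mul_comm _ _
    have h1 : g * c = c * g := congrArg Subtype.val hcomm
    rw [h1, mul_assoc, mul_inv_cancel, mul_one]
  -- an involution of `N` lies in `C`
  obtain ⟨a, ha⟩ := exists_prime_orderOf_dvd_card' (G := N) 2 (by rw [hcN]; norm_num)
  obtain ⟨b, hb⟩ := exists_prime_orderOf_dvd_card' (G := R) 5 (by rw [hRc])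
  have ha' : orderOf (a : G) = 2 := by rw [Subgroup.orderOf_coe]; exact ha
  have hb' : orderOf (b : G) = 5 := by rw [Subgroup.orderOf_coe]; exact hb
  have hRb : Subgroup.zpowers (b : G) = R := by
    apply Subgroup.eq_of_le_of_card_ge
    · rw [Subgroup.zpowers_le]; exact b.2
    · rw [Nat.card_zpowers, hb', hRc]
  have hab : (a : G) * b = b * a := by
    apply hB 2 5 (a : G) (b : G) Nat.prime_two (by norm_num) ha' hb'
    rw [hRb]
    exact hRn.conj_mem _ b.2 _
  have haC : (a : G) ∈ π.ker := by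
    rw [hmemC]
    intro c hc
    rw [← hRb] at hc
    obtain ⟨k, rfl⟩ := Subgroup.mem_zpowers_iff.mp hc
    have h1 : Commute (a : G) ((b : G) ^ k) := (show Commute (a : G) b from hab).zpow_right k
    rw [h1.eq, mul_assoc, mul_inv_cancel, mul_one]
  -- `N ≤ C`
  have hNC : N ≤ π.ker := by
    have h5 : 5 ∣ Nat.card (π.ker ⊓ N : Subgroup G) := by
      rw [← hRc]
      exact Subgroup.card_dvd_of_le (le_inf hRC hRN)
    have h2 : 2 ∣ Nat.card (π.ker ⊓ N : Subgroup G) := by
      rw [← ha', ← Nat.card_zpowers]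
      apply Subgroup.card_dvd_of_le
      rw [Subgroup.zpowers_le]
      exact ⟨haC, a.2⟩
    have h10 : 10 ∣ Nat.card (π.ker ⊓ N : Subgroup G) :=
      Nat.Coprime.mul_dvd_of_dvd_of_dvd (by norm_num : Nat.Coprime 2 5) h2 h5
    have hle : Nat.card N ≤ Nat.card (π.ker ⊓ N : Subgroup G) := by
      rw [hcN]
      exact Nat.le_of_dvd Nat.card_pos h10
    have := Subgroup.eq_of_le_of_card_ge (inf_le_right : π.ker ⊓ N ≤ N) hle
    rw [← this]
    exact inf_le_left
  -- `G = C`
  intro g
  have hg : f g ∈ π.ker.map f := by rw [htop]; trivial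
  obtain ⟨c, hc, hcg⟩ := hg
  have hcg' : c⁻¹ * g ∈ N := by
    rw [← hk, MonoidHom.mem_ker, map_mul, map_inv, hcg, inv_mul_cancel]
  have : g ∈ π.ker := by
    have h1 : c * (c⁻¹ * g) ∈ π.ker := mul_mem hc (hNC hcg')
    rwa [mul_inv_cancel_left] at h1
  exact (hmemC g).mp this

/-- a central subgroup `R` with complement `L` gives `G ≃* L × R` -/
theorem mulEquiv_prod_of_central (R L : Subgroup G) (hL : R.IsComplement' L)
    (hc : ∀ g : G, ∀ c ∈ R, g * c * g⁻¹ = c) : Nonempty (G ≃* L × R) := by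
  have hcomm : ∀ (l : L) (c : R), Commute (L.subtype l) (R.subtype c) := by
    intro l c
    have h := hc l c c.2
    show (l : G) * c = c * l
    calc (l : G) * c = ((l : G) * c * (l : G)⁻¹) * l := by group
      _ = c * l := by rw [h]
  let μ : L × R →* G := MonoidHom.noncommCoprod L.subtype R.subtype hcomm
  have hμ : ∀ x : L × R, μ x = (x.1 : G) * (x.2 : G) := fun x => rfl
  have hbij : Function.Bijective μ := by
    constructor
    · intro x y hxy
      rw [hμ, hμ] at hxy
      have h1 : (x.2 : G) * (x.1 : G) = (y.2 : G) * (y.1 : G) := by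
        have e1 : (x.1 : G) * (x.2 : G) = (x.2 : G) * (x.1 : G) := (hcomm x.1 x.2).eq
        have e2 : (y.1 : G) * (y.2 : G) = (y.2 : G) * (y.1 : G) := (hcomm y.1 y.2).eq
        rw [← e1, ← e2]; exact hxy
      have h2 := (Subgroup.isComplement_iff_existsUnique.mp hL ((x.2 : G) * (x.1 : G))).unique
        (y₁ := (x.2, x.1)) (y₂ := (y.2, y.1)) rfl h1.symm
      have h3 : x.2 = y.2 := congrArg Prod.fst h2
      have h4 : x.1 = y.1 := congrArg Prod.snd h2
      exact Prod.ext h4 h3
    · intro g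
      obtain ⟨x, hx, -⟩ := Subgroup.isComplement_iff_existsUnique.mp hL g
      refine ⟨(x.2, x.1), ?_⟩
      rw [hμ]
      show (x.2 : G) * (x.1 : G) = g
      rw [← hx]
      exact (hcomm x.2 x.1).eq
  exact ⟨(MulEquiv.ofBijective μ hbij).symm⟩

/-- a group of order `5` is `Multiplicative (ZMod 5)` -/
theorem mulEquiv_zmod_five {X : Type u} [Group X] (h : Nat.card X = 5) :
    Nonempty (X ≃* Multiplicative (ZMod 5)) := by
  haveI : Fact (Nat.Prime 5) := ⟨by norm_num⟩
  have hcyc : IsCyclic X := isCyclic_of_prime_card h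
  have e := zmodCyclicMulEquiv hcyc
  rw [h] at e
  exact ⟨e.symm⟩

/-- the case `|G| = 120` reduces to the case `|G| = 24` -/
theorem A4_case120_of
    (h24 : ∀ {X : Type u} [Group X] [Finite X], PU X → ∀ M : Subgroup X, M.Normal → IsZ M →
      Quo M (alternatingGroup (Fin 4)) → Nat.card X = 24 →
      Nonempty (X ≃* Matrix.SpecialLinearGroup (Fin 2) (ZMod 3)))
    [Finite G] (hU : PU G) (hB : PB G) (N : Subgroup G) (hN : N.Normal) (hZ : IsZ N)
    (hq : Quo N (alternatingGroup (Fin 4))) (h : Nat.card G = 120) :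
    Nonempty (G ≃* Matrix.SpecialLinearGroup (Fin 2) (ZMod 3) × Multiplicative (ZMod 5)) := by
  haveI : Fact (Nat.Prime 5) := ⟨by norm_num⟩
  have hcN : Nat.card N = 5 * 2 := by
    have := card_of_quo_A4 N hq
    omega
  obtain ⟨R, hRn, hRN, hRc⟩ := exists_normal_of_card N 5 2 hcN (by norm_num) (by norm_num)
    (by norm_num)
  have hidx : R.index = 24 := by
    have := Subgroup.card_mul_index R
    rw [hRc, h] at this
    omega
  obtain ⟨L, hLc, hcL, hLn, hLZ, hLq⟩ := complement_transfer N hZ hq R hRN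
    (by rw [hRc, hidx]; norm_num)
  have hL24 : Nat.card L = 24 := by
    rw [hRc, h] at hcL
    omega
  obtain ⟨e₁⟩ := h24 ((U3_subgroup L).1 hU) (N.subgroupOf L) hLn hLZ hLq hL24
  have hcen := central_of_card_five hB N hq (by rw [hcN]) R hRN hRc
  obtain ⟨e₂⟩ := mulEquiv_prod_of_central R L hLc hcen
  obtain ⟨e₃⟩ := mulEquiv_zmod_five hRc
  exact ⟨e₂.trans (MulEquiv.prodCongr e₁ e₃)⟩

/-- `A4_cases`, given the two base cases `|G| = 24` and `|G| = 48` -/
theorem A4_cases_of
    (h24 : ∀ {X : Type u} [Group X] [Finite X], PU X → ∀ M : Subgroup X, M.Normal → IsZ M →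
      Quo M (alternatingGroup (Fin 4)) → Nat.card X = 24 →
      Nonempty (X ≃* Matrix.SpecialLinearGroup (Fin 2) (ZMod 3)))
    (h48 : ∀ {X : Type u} [Group X] [Finite X], PU X → ∀ M : Subgroup X, M.Normal → IsZ M →
      Quo M (alternatingGroup (Fin 4)) → Nat.card X = 48 → False)
    [Finite G] (hU : PU G) (hB : PB G) (N : Subgroup G) (hN : N.Normal) (hZ : IsZ N)
    (hq : Quo N (alternatingGroup (Fin 4)))
    (hc : Nat.card G = 24 ∨ Nat.card G = 48 ∨ Nat.card G = 120 ∨ Nat.card G = 528) :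
    (Nat.card G = 24 ∧ Nonempty (G ≃* Matrix.SpecialLinearGroup (Fin 2) (ZMod 3))) ∨
      (Nat.card G = 120 ∧
        Nonempty (G ≃* Matrix.SpecialLinearGroup (Fin 2) (ZMod 3) × Multiplicative (ZMod 5))) := by
  rcases hc with h | h | h | h
  · exact Or.inl ⟨h, h24 hU N hN hZ hq h⟩
  · exact (h48 hU N hN hZ hq h).elim
  · exact Or.inr ⟨h, A4_case120_of h24 hU hB N hN hZ hq h⟩
  · exact (A4_case528_of h48 hU N hN hZ hq h).elim

end Cfsg.Agent.S3361L
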