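import Mathlib
import Cfsg.Agent.Lib.S3361.Front
import Cfsg.Agent.Lib.S3361.Front2
import Cfsg.Agent.Lib.Helper5.GL1.Main
import Cfsg.Agent.Lib.S3361.P2A
import Cfsg.Agent.Lib.S3361.P2B
import Cfsg.Agent.Lib.S3361.P2C2

/-! # S3361: assembly, modulo (ΓL1), `front_PB` and the base cases of `A4_cases` -/

set_option autoImplicit false

namespace Cfsg.Agent.S3361L

open Cfsg.Agent.S4291L Cfsg.Agent.S3358L

universe u v

theorem assembly
    (h24 : ∀ {X : Type u} [Group X] [Finite X], PU X → ∀ M : Subgroup X, M.Normal → IsZ M →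
      Quo M (alternatingGroup (Fin 4)) → Nat.card X = 24 →
      Nonempty (X ≃* Matrix.SpecialLinearGroup (Fin 2) (ZMod 3)))
    (h48 : ∀ {X : Type u} [Group X] [Finite X], PU X → ∀ M : Subgroup X, M.Normal → IsZ M →
      Quo M (alternatingGroup (Fin 4)) → Nat.card X = 48 → False)
    (q : ℕ) [Fact q.Prime] {V : Type v} [AddCommGroup V] [Module (ZMod q) V] [Finite V]
    [Nontrivial V] {G : Type u} [Group G] [Finite G] (hsol : Group.IsSolvable G)
    (ρ : G →* (V ≃ₗ[ZMod q] V)) (hρ : Function.Injective ρ)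
    (htrans : ∀ v w : V, v ≠ 0 → w ≠ 0 → ∃ g : G, ρ g v = w)
    (hreg : ∀ v : V, v ≠ 0 → ∀ g : G, ρ g v = v → g = 1)
    :
    ((∃ (F : Type) (_ : Field F) (_ : Fintype F) (e : V ≃+ F),
        ∀ g : G, ∃ (a : F) (σ : F ≃+* F), ∀ v : V, e (ρ g v) = a * σ (e v)) ∨
      Nat.card V ∈ ({25, 49, 121, 529} : Set ℕ)) ∧
    (q ≠ 2 → (∃ N : Subgroup G, N.Normal ∧ N.index = 2) ∨
      (Nat.card V = 25 ∧ Nonempty (G ≃* Matrix.SpecialLinearGroup (Fin 2) (ZMod 3))) ∨
      (Nat.card V = 121 ∧ Nonempty (G ≃* Matrix.SpecialLinearGroup (Fin 2) (ZMod 3) ×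
        Multiplicative (ZMod 5)))) := by
  have hB : PB G := front_PB ρ hρ htrans hreg
  have hP1 := front_P1 ρ hρ htrans hreg hsol (Cfsg.Agent.Lib.Helper5.GL1.hGL_holds q ρ)
  refine ⟨hP1, fun hq2 => ?_⟩
  have hU : PU G := front_PU ρ hρ htrans hreg
  have hcard : Nat.card G + 1 = Nat.card V := front_card ρ hρ htrans hreg
  have hqp : q.Prime := Fact.out
  have hodd : Odd (Nat.card V) := by
    have h1 : Nat.card V = q ^ Module.finrank (ZMod q) V := by
      have := Module.natCard_eq_pow_finrank (K := ZMod q) (V := V)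
      rwa [Nat.card_zmod] at this
    rw [h1]
    exact (hqp.odd_of_ne_two hq2).pow
  have heven : 2 ∣ Nat.card G := by
    obtain ⟨k, hk⟩ := hodd
    omega
  rcases P2_main hsol hU heven with h | ⟨N, hn, hz, hquo⟩
  · exact Or.inl h
  · right
    rcases hP1 with hGL1 | hsz
    · exfalso
      obtain ⟨f, hf, -⟩ := hquo
      exact no_A4_of_semilinear ρ hρ hGL1 ⟨f, hf⟩
    · have hc : Nat.card G = 24 ∨ Nat.card G = 48 ∨ Nat.card G = 120 ∨ Nat.card G = 528 := by
        simp only [Set.mem_insert_iff, Set.mem_singleton_iff] at hsz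
        omega
      rcases A4_cases_of h24 h48 hU hB N hn hz hquo hc with ⟨hc24, e⟩ | ⟨hc120, e⟩
      · exact Or.inl ⟨by omega, e⟩
      · exact Or.inr ⟨by omega, e⟩

end Cfsg.Agent.S3361L
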