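import Mathlib
import Cfsg.Agent.Lib.S4291.Defs
import Cfsg.Agent.Lib.S3358.U1
import Cfsg.Agent.Lib.Lead.QuatSylowSL23
import Cfsg.Agent.Lib.Zass.E2B

/-! # S3361 (P2c), part A (helper8)

Finite facts about `A₄`, `Q₈`, `Q₁₆` and general helpers for `A4_cases`. -/

set_option autoImplicit false
set_option linter.unusedVariables false
set_option linter.style.haveILetI false

namespace Cfsg.Agent.S3361L

open Cfsg.Agent.S3358L

universe u

/-! ### finite facts, by `decide` -/

theorem P2C_A4_card : Nat.card (alternatingGroup (Fin 4)) = 12 := by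
  have h := two_mul_card_alternatingGroup (α := Fin 4)
  rw [Fintype.card_perm, Fintype.card_fin] at h
  rw [Nat.card_eq_fintype_card]
  have : Nat.factorial 4 = 24 := rfl
  omega

theorem P2C_A4_pow16 : ∀ x : alternatingGroup (Fin 4), x ^ 16 = 1 → x ^ 2 = 1 := by
  decide +kernel

theorem P2C_A4_two_squares :
    ∀ x : alternatingGroup (Fin 4), ∃ y z : alternatingGroup (Fin 4), x = y ^ 2 * z ^ 2 := by
  decide +kernel

theorem P2C_A4_two_cubes :
    ∀ x : alternatingGroup (Fin 4), ∃ y z : alternatingGroup (Fin 4),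
      y ^ 3 = 1 ∧ z ^ 3 = 1 ∧ x = y * z := by
  decide +kernel

theorem P2C_A4_no_normal_three : ∀ x : alternatingGroup (Fin 4), x ^ 3 = 1 →
    (∀ g : alternatingGroup (Fin 4),
      g * x * g⁻¹ = 1 ∨ g * x * g⁻¹ = x ∨ g * x * g⁻¹ = x ^ 2) → x = 1 := by
  decide +kernel

theorem P2C_Q16_center : ∀ z : QuaternionGroup 4,
    (∀ x : QuaternionGroup 4, z * x = x * z) → z ^ 2 = 1 := by
  decide +kernel

theorem P2C_Q8_invol : ∀ z : QuaternionGroup 2, z ^ 2 = 1 → z ≠ 1 →
    ∃ s t : QuaternionGroup 2, z = s ^ 2 ∧ z = t ^ 2 ∧ z = (s * t) ^ 2 := by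
  decide +kernel

/-! ### general helpers -/

theorem P2C_card_ker {G : Type u} [Group G] [Finite G]
    (f : G →* alternatingGroup (Fin 4)) (hf : Function.Surjective f) :
    Nat.card f.ker * 12 = Nat.card G := by
  have h1 := Subgroup.card_mul_index f.ker
  rw [Subgroup.index_ker, MonoidHom.range_eq_top.mpr hf, Subgroup.card_top, P2C_A4_card] at h1
  exact h1

theorem P2C_sylow_card {G : Type u} [Group G] [Finite G] (p : ℕ) [hp : Fact p.Prime]
    (P : Sylow p G) (k m : ℕ) (hc : Nat.card G = p ^ k * m) (hm : ¬ p ∣ m) :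
    Nat.card P = p ^ k := by
  have hm0 : m ≠ 0 := by
    rintro rfl
    exact hm (dvd_zero p)
  rw [Sylow.card_eq_multiplicity, hc, Nat.factorization_mul (pow_ne_zero _ hp.out.ne_zero) hm0,
    hp.out.factorization_pow, Finsupp.add_apply, Nat.factorization_eq_zero_of_not_dvd hm,
    Finsupp.single_eq_same, add_zero]

theorem P2C_sq_mem_ker {G : Type u} [Group G] (f : G →* alternatingGroup (Fin 4)) (t : G)
    (ht : t ^ 16 = 1) : t ^ 2 ∈ f.ker := by
  rw [MonoidHom.mem_ker, map_pow]
  apply P2C_A4_pow16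
  rw [← map_pow, ht, map_one]

theorem P2C_pow_card_ker {G : Type u} [Group G] [Finite G] (f : G →* alternatingGroup (Fin 4))
    {x : G} (hx : x ∈ f.ker) : x ^ Nat.card f.ker = 1 := by
  have h := pow_card_eq_one' (G := f.ker) (x := ⟨x, hx⟩)
  have h2 := congrArg Subtype.val h
  simpa using h2

/-- a cyclic `2`-subgroup of order dividing `16` has order dividing `2 * |ker f|` -/
theorem P2C_sylow_not_cyclic {G : Type u} [Group G] [Finite G]
    (f : G →* alternatingGroup (Fin 4)) (T : Subgroup G) (hT16 : Nat.card T ∣ 16)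
    (hnd : ¬ Nat.card T ∣ 2 * Nat.card f.ker) (hcyc : IsCyclic T) : False := by
  obtain ⟨t, ht⟩ := IsCyclic.exists_generator (α := T)
  have hord : orderOf t = Nat.card T := orderOf_eq_card_of_forall_mem_zpowers ht
  have hordG : orderOf (t : G) = Nat.card T := by
    rw [Subgroup.orderOf_coe, hord]
  have h16 : (t : G) ^ 16 = 1 := by
    apply orderOf_dvd_iff_pow_eq_one.mp
    rw [hordG]
    exact hT16
  have hmem := P2C_sq_mem_ker f (t : G) h16
  have h3 := P2C_pow_card_ker f hmem
  rw [← pow_mul] at h3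
  have h5 := orderOf_dvd_of_pow_eq_one h3
  rw [hordG] at h5
  exact hnd h5

end Cfsg.Agent.S3361L
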