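import Mathlib
import Cfsg.Agent.Lib.S3361.P2CA

/-! # S3361 (P2c), part B (helper8): the case `|G| = 24` -/

set_option autoImplicit false
set_option linter.unusedVariables false
set_option linter.style.haveILetI false

namespace Cfsg.Agent.S3361L

open Cfsg.Agent.S3358L

universe u

/-- a normal subgroup `K` of order `3` is impossible when `f` maps onto `A₄` with `|ker f|`
coprime to `3` -/
theorem P2C_no_normal_three {G : Type u} [Group G] [Finite G]
    (f : G →* alternatingGroup (Fin 4)) (hf : Function.Surjective f)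
    (hker : (Nat.card f.ker).Coprime 3) (K : Subgroup G) (hK : K.Normal)
    (hK3 : Nat.card K = 3) : False := by
  haveI : Fact (Nat.Prime 3) := ⟨Nat.prime_three⟩
  haveI : IsCyclic K := isCyclic_of_prime_card hK3
  obtain ⟨a, ha⟩ := IsCyclic.exists_generator (α := K)
  have hord : orderOf a = 3 := by
    rw [orderOf_eq_card_of_forall_mem_zpowers ha, hK3]
  have hordG : orderOf (a : G) = 3 := by rw [Subgroup.orderOf_coe, hord]
  have ha3 : (a : G) ^ 3 = 1 := by rw [← hordG]; exact pow_orderOf_eq_one _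
  have hfa3 : f (a : G) ^ 3 = 1 := by rw [← map_pow, ha3, map_one]
  have hconj : ∀ g : alternatingGroup (Fin 4),
      g * f (a : G) * g⁻¹ = 1 ∨ g * f (a : G) * g⁻¹ = f (a : G) ∨
        g * f (a : G) * g⁻¹ = f (a : G) ^ 2 := by
    intro g'
    obtain ⟨g, rfl⟩ := hf g'
    have hmem : g * (a : G) * g⁻¹ ∈ K := hK.conj_mem _ a.2 g
    have hz := ha ⟨g * (a : G) * g⁻¹, hmem⟩
    rw [Subgroup.mem_zpowers_iff] at hz
    obtain ⟨j, hj⟩ := hz
    have hj' : (a : G) ^ j = g * (a : G) * g⁻¹ := by
      have := congrArg Subtype.val hj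
      simpa using this
    have hmod : (a : G) ^ (j % 3) = g * (a : G) * g⁻¹ := by
      rw [← hj']
      have := zpow_mod_orderOf (a : G) j
      rw [hordG] at this
      exact_mod_cast this
    have h0 : 0 ≤ j % 3 := Int.emod_nonneg _ (by norm_num)
    have h1 : j % 3 < 3 := Int.emod_lt_of_pos _ (by norm_num)
    have hfm : f g * f (a : G) * (f g)⁻¹ = f ((a : G) ^ (j % 3)) := by
      rw [hmod, map_mul, map_mul, map_inv]
    obtain h | h | h : j % 3 = 0 ∨ j % 3 = 1 ∨ j % 3 = 2 := by omega
    · left; rw [hfm, h, zpow_zero, map_one]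
    · right; left; rw [hfm, h, zpow_one]
    · right; right
      rw [hfm, h]
      have : (a : G) ^ (2 : ℤ) = (a : G) ^ 2 := by norm_cast
      rw [this, map_pow]
  have hfa1 := P2C_A4_no_normal_three _ hfa3 hconj
  have hmemk : (a : G) ∈ f.ker := hfa1
  have h2 := P2C_pow_card_ker f hmemk
  have h3 := orderOf_dvd_of_pow_eq_one h2
  rw [hordG] at h3
  have h4 : (3 : ℕ) ∣ Nat.gcd (Nat.card f.ker) 3 := Nat.dvd_gcd h3 dvd_rfl
  rw [hker] at h4
  omega

/-- the case `|G| = 24` -/
theorem P2C_case24 {G : Type u} [Group G] [Finite G] (hU : PU G)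
    (f : G →* alternatingGroup (Fin 4)) (hf : Function.Surjective f) (hc : Nat.card G = 24) :
    Nonempty (G ≃* Matrix.SpecialLinearGroup (Fin 2) (ZMod 3)) := by
  classical
  haveI : Fact (Nat.Prime 2) := ⟨Nat.prime_two⟩
  have hker : Nat.card f.ker = 2 := by
    have h1 := P2C_card_ker f hf
    omega
  let T : Sylow 2 G := default
  have hT : Nat.card (T : Subgroup G) = 8 := by
    have := P2C_sylow_card 2 T 3 3 (by rw [hc]; norm_num) (by norm_num)
    simpa using this
  rcases U1_pgroup hU 2 (T : Subgroup G) T.isPGroup' with hcyc | ⟨_, n, hn⟩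
  · exfalso
    refine P2C_sylow_not_cyclic f (T : Subgroup G) ?_ ?_ hcyc
    · rw [hT]; norm_num
    · rw [hT, hker]; norm_num
  · rcases Cfsg.Agent.Lead.QSyl.main T n hn with ⟨P', K, hK, hcompl⟩ | ⟨H, K, hK, ⟨e⟩⟩
    · exfalso
      have hP' : Nat.card (P' : Subgroup G) = 8 := by
        have := P2C_sylow_card 2 P' 3 3 (by rw [hc]; norm_num) (by norm_num)
        simpa using this
      have hmul := hcompl.card_mul_card
      rw [hP', hc] at hmul
      have hK3 : Nat.card K = 3 := by omega
      exact P2C_no_normal_three f hf (by rw [hker]; norm_num) K hK hK3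
    · haveI := hK
      have h1 := Subgroup.card_eq_card_quotient_mul_card_subgroup (K.subgroupOf H)
      rw [Nat.card_congr e.toEquiv, Cfsg.Agent.ZassL.ZE_card_sl23] at h1
      have h2 : Nat.card H ∣ 24 := by
        rw [← hc]; exact Subgroup.card_subgroup_dvd_card H
      have h3 : Nat.card H ≤ 24 := Nat.le_of_dvd (by norm_num) h2
      have h4 : 0 < Nat.card (K.subgroupOf H) := Nat.card_pos
      have h5 : Nat.card (K.subgroupOf H) = 1 := by nlinarith
      have h6 : Nat.card H = 24 := by rw [h1, h5]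
      have hHtop : H = ⊤ := by
        apply Subgroup.eq_top_of_card_eq
        rw [h6, hc]
      have hKbot : K.subgroupOf H = ⊥ := Subgroup.card_eq_one.mp h5
      subst hHtop
      refine ⟨?_⟩
      exact (Subgroup.topEquiv.symm.trans
        ((QuotientGroup.quotientBot (G := ↥(⊤ : Subgroup G))).symm.trans
          (QuotientGroup.quotientMulEquivOfEq hKbot.symm))).trans e

end Cfsg.Agent.S3361L
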