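import Mathlib
import Cfsg.Agent.Lib.S3361.P2CB

/-! # S3361 (P2c), base case `|G| = 24` (helper8) -/

set_option autoImplicit false
set_option linter.unusedVariables false

namespace Cfsg.Agent.S3361L

open Cfsg.Agent.S4291L Cfsg.Agent.S3358L

universe u

/-- a group of order `24` with `PU` and a quotient `A₄` is `SL(2,3)` -/
theorem A4_case24 {X : Type u} [Group X] [Finite X] (hU : PU X) (M : Subgroup X)
    (hM : M.Normal) (hZ : IsZ M) (hq : Quo M (alternatingGroup (Fin 4)))
    (h : Nat.card X = 24) :
    Nonempty (X ≃* Matrix.SpecialLinearGroup (Fin 2) (ZMod 3)) := by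
  obtain ⟨f, hf, -⟩ := hq
  exact P2C_case24 hU f hf h

end Cfsg.Agent.S3361L
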