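import Mathlib
import Cfsg.Agent.Lib.S3361.P2C2
import Cfsg.Agent.Lib.Zass.STUD

/-! # S3361, part (P2c), base case `|X| = 48` (helper7): a group of order `48` without `C_p × C_p`
has no normal subgroup `M` with cyclic Sylow subgroups and `X / M ≅ A₄`.

`M` is cyclic of order `4`, hence central (`A₄` is generated by fourth powers).  If `t, s` map to
two distinct involutions of `A₄`, then `t, s, ts` lie outside `M`; as `⟨x, M⟩` is cyclic for every
`x`, none of `t, s, ts` is killed by `4`; but `t², s², [t,s] ∈ M` force `(ts)⁴ = 1`. -/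

set_option autoImplicit false
set_option linter.unusedSectionVars false
set_option linter.unusedVariables false
set_option linter.style.haveILetI false

namespace Cfsg.Agent.S3361L

open Cfsg.Agent.S4291L Cfsg.Agent.S3358L Cfsg.Agent.ZassL

universe u

variable {X : Type u} [Group X]

/-- a conjugate of an element `m` of order `4` inside `⟨m⟩` is `m` or `m⁻¹` -/
theorem c48_conj_cases [Finite X] {m : X} (hm : orderOf m = 4) {g : X}
    (hg : g * m * g⁻¹ ∈ Subgroup.zpowers m) : g * m * g⁻¹ = m ∨ g * m * g⁻¹ = m⁻¹ := by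
  classical
  have hm4 : m ^ 4 = 1 := by rw [← hm]; exact pow_orderOf_eq_one m
  have hm1 : m ≠ 1 := by
    intro h1
    rw [h1, orderOf_one] at hm
    omega
  have hm2 : m ^ 2 ≠ 1 := by
    intro h2
    have := orderOf_dvd_of_pow_eq_one h2
    rw [hm] at this
    omega
  rw [mem_zpowers_iff_mem_range_orderOf, hm] at hg
  obtain ⟨i, hi, hc⟩ := Finset.mem_image.mp hg
  have hi4 : i < 4 := Finset.mem_range.mp hi
  have hc' : m ^ i = g * m * g⁻¹ := hc
  interval_cases i
  · exfalso
    apply hm1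
    rw [pow_zero] at hc'
    have : g⁻¹ * (g * m * g⁻¹) * g = m := by group
    rw [← this, ← hc']
    group
  · left
    rw [← hc', pow_one]
  · exfalso
    apply hm2
    have h1 : (g * m * g⁻¹) ^ 2 = 1 := by
      rw [← hc', ← pow_mul]
      exact hm4
    rw [conj_pow] at h1
    have : g⁻¹ * (g * m ^ 2 * g⁻¹) * g = m ^ 2 := by group
    rw [← this, h1]
    group
  · right
    rw [← hc']
    apply eq_inv_of_mul_eq_one_left
    rw [← pow_succ]
    exact hm4

/-- in a group without `C_p × C_p`, an element outside `⟨m⟩`, `m` central of order `4`, is not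
killed by `4` -/
theorem c48_pow_four_ne [Finite X] (hU : PU X) {m : X} (hm : orderOf m = 4)
    (hmc : ∀ g : X, g * m = m * g) {x : X} (hx : x ∉ Subgroup.zpowers m) : x ^ 4 ≠ 1 := by
  classical
  intro hx4
  have hm4 : m ^ 4 = 1 := by rw [← hm]; exact pow_orderOf_eq_one m
  let A : Subgroup X := Subgroup.closure {x, m}
  have hcomm : ∀ a ∈ ({x, m} : Set X), ∀ b ∈ ({x, m} : Set X), a * b = b * a := by
    intro a ha b hb
    rcases ha with rfl | rfl <;> rcases hb with rfl | rfl
    · rfl
    · exact hmc a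
    · exact (hmc b).symm
    · rfl
  have hAc : IsMulCommutative A := Subgroup.isMulCommutative_closure hcomm
  haveI : IsCyclic A := STU_isCyclic_of_comm hU A hAc
  haveI : Fintype A := Fintype.ofFinite A
  have hle := IsCyclic.card_pow_eq_one_le (α := A) (n := 4) (by norm_num)
  let m' : A := ⟨m, Subgroup.subset_closure (by simp)⟩
  let x' : A := ⟨x, Subgroup.subset_closure (by simp)⟩
  have hm'4 : m' ^ 4 = 1 := Subtype.ext (by simpa using hm4)
  have hom' : orderOf m' = 4 := by
    rw [← hm, ← Subgroup.orderOf_coe]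
  let S4 : Finset A := (Finset.range 4).image (fun i => m' ^ i)
  have hS4 : S4.card = 4 := by
    rw [Finset.card_image_of_injOn, Finset.card_range]
    intro i hi j hj hij
    have hi' : i < orderOf m' := by rw [hom']; exact Finset.mem_range.mp hi
    have hj' : j < orderOf m' := by rw [hom']; exact Finset.mem_range.mp hj
    exact pow_injOn_Iio_orderOf hi' hj' hij
  have hx'S : x' ∉ S4 := by
    intro hmem
    obtain ⟨i, -, hi⟩ := Finset.mem_image.mp hmem
    apply hx
    refine Subgroup.mem_zpowers_iff.mpr ⟨(i : ℤ), ?_⟩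
    have := congrArg Subtype.val hi
    simpa using this
  have hsub : insert x' S4 ⊆ Finset.univ.filter (fun a : A => a ^ 4 = 1) := by
    intro a ha
    rw [Finset.mem_filter]
    refine ⟨Finset.mem_univ _, ?_⟩
    rcases Finset.mem_insert.mp ha with rfl | ha
    · exact Subtype.ext (by simpa using hx4)
    · obtain ⟨i, -, rfl⟩ := Finset.mem_image.mp ha
      rw [← pow_mul, mul_comm, pow_mul, hm'4, one_pow]
  have h5 : (insert x' S4).card = 5 := by
    rw [Finset.card_insert_of_notMem hx'S, hS4]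
  have := Finset.card_le_card hsub
  omega

/-- the double transposition `(0 1)(2 3)` of `A₄` -/
def c48σ : alternatingGroup (Fin 4) :=
  ⟨Equiv.swap 0 1 * Equiv.swap 2 3, by
    rw [Equiv.Perm.mem_alternatingGroup, Equiv.Perm.sign_mul, Equiv.Perm.sign_swap (by decide),
      Equiv.Perm.sign_swap (by decide)]
    rfl⟩

/-- the double transposition `(0 2)(1 3)` of `A₄` -/
def c48τ : alternatingGroup (Fin 4) :=
  ⟨Equiv.swap 0 2 * Equiv.swap 1 3, by
    rw [Equiv.Perm.mem_alternatingGroup, Equiv.Perm.sign_mul, Equiv.Perm.sign_swap (by decide),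
      Equiv.Perm.sign_swap (by decide)]
    rfl⟩

theorem c48σ_ne : c48σ ≠ 1 := by decide
theorem c48τ_ne : c48τ ≠ 1 := by decide
theorem c48στ_ne : c48σ * c48τ ≠ 1 := by decide
theorem c48σ_sq : c48σ * c48σ = 1 := by decide
theorem c48τ_sq : c48τ * c48τ = 1 := by decide
theorem c48στ_comm : c48σ * c48τ * c48σ⁻¹ * c48τ⁻¹ = 1 := by decide

/-- powers of a central element are central -/
theorem c48_zpow_comm {m : X} (hmc : ∀ g : X, g * m = m * g) (i : ℤ) (g : X) :
    g * m ^ i = m ^ i * g := by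
  have h : Commute g m := hmc g
  exact h.zpow_right i

/-- the main computation: `t², s², [t,s] ∈ ⟨m⟩` with `t⁴ ≠ 1 ≠ s⁴` force `(ts)⁴ = 1` -/
theorem c48_pow_four_eq {m : X} (hm : orderOf m = 4) (hmc : ∀ g : X, g * m = m * g) {t s : X}
    {i j k : ℤ} (hi : m ^ i = t * s * t⁻¹ * s⁻¹) (hj : m ^ j = t * t) (hk : m ^ k = s * s)
    (ht4 : t ^ 4 ≠ 1) (hs4 : s ^ 4 ≠ 1) : (t * s) ^ 4 = 1 := by
  have key : t * s = m ^ i * (s * t) := by rw [hi]; group
  have hsq : (t * s) * (t * s) = m ^ (i + j + k) := by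
    calc (t * s) * (t * s) = (m ^ i * (s * t)) * (t * s) := congrArg (· * (t * s)) key
      _ = m ^ i * (s * (t * t) * s) := by group
      _ = m ^ i * (s * m ^ j * s) := by rw [hj]
      _ = m ^ i * (m ^ j * s * s) := by rw [c48_zpow_comm hmc j s]
      _ = m ^ i * (m ^ j * m ^ k) := by rw [mul_assoc (m ^ j), ← hk]
      _ = m ^ (i + j + k) := by rw [zpow_add, zpow_add, mul_assoc]
  have h1 : t * t * s = m ^ i * m ^ i * (s * (t * t)) := by
    calc t * t * s = t * (t * s) := by group
      _ = t * (m ^ i * (s * t)) := by rw [← key]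
      _ = m ^ i * (t * s * t) := by
        rw [← mul_assoc, c48_zpow_comm hmc i t]; group
      _ = m ^ i * (m ^ i * (s * t) * t) := by rw [← key]
      _ = m ^ i * m ^ i * (s * (t * t)) := by group
  rw [← hj, c48_zpow_comm hmc j s] at h1
  have hc2 : m ^ (2 * i) = 1 := by
    have h2 : (1 : X) * (m ^ j * s) = m ^ i * m ^ i * (m ^ j * s) := by rw [one_mul]; exact h1
    have h3 := mul_right_cancel h2
    rw [two_mul, zpow_add]
    exact h3.symm
  have hd1 : (4 : ℤ) ∣ 2 * i := by
    have := (orderOf_dvd_iff_zpow_eq_one (x := m) (i := 2 * i)).mpr hc2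
    rw [hm] at this
    exact_mod_cast this
  have hd2 : ¬ (4 : ℤ) ∣ 2 * j := by
    intro hd
    apply ht4
    have h5 : m ^ (2 * j) = 1 := by
      apply (orderOf_dvd_iff_zpow_eq_one (x := m) (i := 2 * j)).mp
      rw [hm]
      exact_mod_cast hd
    have : t ^ 4 = (t * t) * (t * t) := by
      rw [show (4 : ℕ) = 2 + 2 from rfl, pow_add, pow_two]
    rw [this, ← hj, ← zpow_add, ← two_mul]
    exact h5
  have hd3 : ¬ (4 : ℤ) ∣ 2 * k := by
    intro hd
    apply hs4
    have h5 : m ^ (2 * k) = 1 := by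
      apply (orderOf_dvd_iff_zpow_eq_one (x := m) (i := 2 * k)).mp
      rw [hm]
      exact_mod_cast hd
    have : s ^ 4 = (s * s) * (s * s) := by
      rw [show (4 : ℕ) = 2 + 2 from rfl, pow_add, pow_two]
    rw [this, ← hk, ← zpow_add, ← two_mul]
    exact h5
  have hd4 : (4 : ℤ) ∣ 2 * (i + j + k) := by omega
  have h6 : m ^ (2 * (i + j + k)) = 1 := by
    apply (orderOf_dvd_iff_zpow_eq_one (x := m) (i := 2 * (i + j + k))).mp
    rw [hm]
    exact_mod_cast hd4
  have : (t * s) ^ 4 = ((t * s) * (t * s)) * ((t * s) * (t * s)) := by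
    rw [show (4 : ℕ) = 2 + 2 from rfl, pow_add, pow_two]
  rw [this, hsq, ← zpow_add, ← two_mul]
  exact h6

/-- **base case `|X| = 48`** of `A4_cases`: impossible -/
theorem A4_case48 {X : Type u} [Group X] [Finite X] (hU : PU X) (M : Subgroup X) (hM : M.Normal)
    (hZ : IsZ M) (hq : Quo M (alternatingGroup (Fin 4))) (h : Nat.card X = 48) : False := by
  have hcM : Nat.card M = 4 := by
    have := card_of_quo_A4 M hq
    omega
  -- `M` is cyclic of order `4`
  haveI : IsZGroup M := (isZ_iff M).mp hZ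
  haveI : Fact (Nat.Prime 2) := ⟨Nat.prime_two⟩
  have hp : IsPGroup 2 (⊤ : Subgroup M) :=
    IsPGroup.of_card (n := 2) (by rw [Subgroup.card_top, hcM]; norm_num)
  haveI hcyc : IsCyclic (⊤ : Subgroup M) := hp.isCyclic_of_isZGroup
  haveI : IsCyclic M :=
    isCyclic_of_surjective Subgroup.topEquiv.toMonoidHom Subgroup.topEquiv.surjective
  obtain ⟨m', hm'⟩ := IsCyclic.exists_generator (α := M)
  have hom' : orderOf m' = 4 := by rw [orderOf_eq_card_of_forall_mem_zpowers hm', hcM]
  have hm : orderOf (m' : X) = 4 := by rw [Subgroup.orderOf_coe, hom']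
  have hMz : Subgroup.zpowers (m' : X) = M := by
    apply le_antisymm
    · rw [Subgroup.zpowers_le]; exact m'.2
    · intro y hy
      obtain ⟨n, hn⟩ := Subgroup.mem_zpowers_iff.mp (hm' ⟨y, hy⟩)
      refine Subgroup.mem_zpowers_iff.mpr ⟨n, ?_⟩
      have := congrArg Subtype.val hn
      simpa using this
  obtain ⟨f, hf, hk⟩ := hq
  -- `M` is central
  have hsq : ∀ g : X, g * g * (m' : X) = (m' : X) * (g * g) := by
    intro g
    have hg : g * (m' : X) * g⁻¹ ∈ Subgroup.zpowers (m' : X) := by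
      rw [hMz]; exact hM.conj_mem _ m'.2 g
    have h2 : g * (g * (m' : X) * g⁻¹) * g⁻¹ = (m' : X) := by
      rcases c48_conj_cases hm hg with h1 | h1
      · rw [h1, h1]
      · rw [h1]
        have : g * (m' : X)⁻¹ * g⁻¹ = (g * (m' : X) * g⁻¹)⁻¹ := by group
        rw [this, h1, inv_inv]
    have h3 : g * g * (m' : X) = (g * (g * (m' : X) * g⁻¹) * g⁻¹) * (g * g) := by group
    rw [h3, h2]
  have hC : ∀ g : X, g ^ 4 ∈ Subgroup.centralizer ({(m' : X)} : Set X) := by
    intro g
    rw [Subgroup.mem_centralizer_iff]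
    intro y hy
    rw [Set.mem_singleton_iff] at hy
    subst hy
    have : g ^ 4 = (g * g) * (g * g) := by
      rw [show (4 : ℕ) = 2 + 2 from rfl, pow_add, pow_two]
    rw [this]
    have hc : Commute (g * g) (m' : X) := hsq g
    exact ((hc.mul_left hc).eq).symm
  have htop := map_eq_top_of_pow_four f hf (Subgroup.centralizer ({(m' : X)} : Set X)) hC
  have hmc : ∀ g : X, g * (m' : X) = (m' : X) * g := by
    intro g
    have hfg : f g ∈ (Subgroup.centralizer ({(m' : X)} : Set X)).map f := by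
      rw [htop]; trivial
    obtain ⟨c, hc, hcg⟩ := hfg
    have hker : c⁻¹ * g ∈ f.ker := by
      rw [MonoidHom.mem_ker, map_mul, map_inv, hcg, inv_mul_cancel]
    rw [hk, ← hMz] at hker
    obtain ⟨n, hn⟩ := Subgroup.mem_zpowers_iff.mp hker
    have hg : g = c * (m' : X) ^ n := by rw [hn]; group
    have h1 : Commute c (m' : X) :=
      (Subgroup.mem_centralizer_iff.mp hc (m' : X) (Set.mem_singleton _)).symm
    have h2 : Commute ((m' : X) ^ n) (m' : X) := (Commute.refl (m' : X)).zpow_left n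
    rw [hg]
    exact h1.mul_left h2
  -- two involutions of `A₄`
  obtain ⟨t, ht⟩ := hf c48σ
  obtain ⟨s, hs⟩ := hf c48τ
  have memM : ∀ x : X, x ∈ Subgroup.zpowers (m' : X) ↔ f x = 1 := by
    intro x
    rw [hMz, ← hk, MonoidHom.mem_ker]
  have htM : t ∉ Subgroup.zpowers (m' : X) := by
    rw [memM, ht]; exact c48σ_ne
  have hsM : s ∉ Subgroup.zpowers (m' : X) := by
    rw [memM, hs]; exact c48τ_ne
  have htsM : t * s ∉ Subgroup.zpowers (m' : X) := by
    rw [memM, map_mul, ht, hs]; exact c48στ_ne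
  have httM : t * t ∈ Subgroup.zpowers (m' : X) := by
    rw [memM, map_mul, ht]; exact c48σ_sq
  have hssM : s * s ∈ Subgroup.zpowers (m' : X) := by
    rw [memM, map_mul, hs]; exact c48τ_sq
  have hcomM : t * s * t⁻¹ * s⁻¹ ∈ Subgroup.zpowers (m' : X) := by
    rw [memM, map_mul, map_mul, map_mul, map_inv, map_inv, ht, hs]; exact c48στ_comm
  obtain ⟨i, hi⟩ := Subgroup.mem_zpowers_iff.mp hcomM
  obtain ⟨j, hj⟩ := Subgroup.mem_zpowers_iff.mp httM
  obtain ⟨k, hk'⟩ := Subgroup.mem_zpowers_iff.mp hssM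
  have ht4 := c48_pow_four_ne hU hm hmc htM
  have hs4 := c48_pow_four_ne hU hm hmc hsM
  have hts4 := c48_pow_four_ne hU hm hmc htsM
  exact hts4 (c48_pow_four_eq hm hmc hi hj hk' ht4 hs4)

end Cfsg.Agent.S3361L
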