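import Mathlib
import Cfsg.Agent.Lib.S3361.P2CA

/-! # S3361 (P2c), part C (helper8): the case `|G| = 48` is impossible -/

set_option autoImplicit false
set_option linter.unusedVariables false
set_option linter.style.haveILetI false

namespace Cfsg.Agent.S3361L

open Cfsg.Agent.S3358L

universe u

/-- the kernel (cyclic of order `4`) is central -/
theorem P2C_central_of_order_four {G : Type u} [Group G] [Finite G]
    (f : G →* alternatingGroup (Fin 4)) (hf : Function.Surjective f)
    (a : G) (ha4 : orderOf a = 4) (hker : f.ker = Subgroup.zpowers a) :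
    ∀ g : G, g * a = a * g := by
  have ha4' : a ^ 4 = 1 := by rw [← ha4]; exact pow_orderOf_eq_one _
  have hne1 : a ≠ 1 := by
    rintro rfl
    rw [orderOf_one] at ha4
    omega
  have hsq : a ^ 2 ≠ 1 := by
    intro h
    have := orderOf_dvd_of_pow_eq_one h
    rw [ha4] at this
    omega
  -- conjugates of `a`
  have hconj : ∀ h : G, h * a * h⁻¹ = a ∨ h * a * h⁻¹ = a ^ 3 := by
    intro h
    have hmem : h * a * h⁻¹ ∈ Subgroup.zpowers a := by
      rw [← hker]
      exact f.normal_ker.conj_mem a (by rw [hker]; exact Subgroup.mem_zpowers a) h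
    rw [Subgroup.mem_zpowers_iff] at hmem
    obtain ⟨j, hj⟩ := hmem
    have hmod : a ^ (j % 4) = h * a * h⁻¹ := by
      rw [← hj]
      have := zpow_mod_orderOf a j
      rw [ha4] at this
      exact_mod_cast this
    have h0 : 0 ≤ j % 4 := Int.emod_nonneg _ (by norm_num)
    have h1 : j % 4 < 4 := Int.emod_lt_of_pos _ (by norm_num)
    obtain h' | h' | h' | h' : j % 4 = 0 ∨ j % 4 = 1 ∨ j % 4 = 2 ∨ j % 4 = 3 := by omega
    · exfalso
      rw [h', zpow_zero] at hmod
      apply hne1
      have : a = h⁻¹ * (h * a * h⁻¹) * h := by group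
      rw [this, ← hmod]; group
    · left; rw [← hmod, h', zpow_one]
    · exfalso
      rw [h'] at hmod
      have e1 : (h * a * h⁻¹) ^ 2 = 1 := by
        rw [← hmod]
        have : (a ^ (2 : ℤ)) ^ 2 = a ^ 4 := by
          rw [← zpow_natCast, ← zpow_mul]; norm_cast
        rw [this, ha4']
      rw [conj_pow] at e1
      apply hsq
      have : a ^ 2 = h⁻¹ * (h * a ^ 2 * h⁻¹) * h := by group
      rw [this, e1]; group
    · right
      rw [← hmod, h']
      norm_cast
  -- squares centralize `a`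
  have hsqc : ∀ h : G, h ^ 2 * a = a * h ^ 2 := by
    intro h
    have key : h ^ 2 * a * (h ^ 2)⁻¹ = a := by
      have e : h ^ 2 * a * (h ^ 2)⁻¹ = h * (h * a * h⁻¹) * h⁻¹ := by
        rw [pow_two, mul_inv_rev]
        simp only [mul_assoc]
      rw [e]
      rcases hconj h with h1 | h1
      · rw [h1, h1]
      · rw [h1, ← conj_pow, h1, ← pow_mul]
        have : a ^ (3 * 3) = a ^ 4 * a ^ 4 * a := by
          rw [← pow_add, ← pow_succ]
        rw [this, ha4', one_mul, one_mul]
    calc h ^ 2 * a = h ^ 2 * a * (h ^ 2)⁻¹ * h ^ 2 := by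
          rw [inv_mul_cancel_right]
      _ = a * h ^ 2 := by rw [key]
  intro g
  obtain ⟨y, z, hyz⟩ := P2C_A4_two_squares (f g)
  obtain ⟨h1, rfl⟩ := hf y
  obtain ⟨h2, rfl⟩ := hf z
  have hn : (h1 ^ 2 * h2 ^ 2)⁻¹ * g ∈ f.ker := by
    rw [MonoidHom.mem_ker, map_mul, map_inv, hyz, map_mul, map_pow, map_pow]
    group
  rw [hker, Subgroup.mem_zpowers_iff] at hn
  obtain ⟨j, hj⟩ := hn
  have hg : g = h1 ^ 2 * h2 ^ 2 * a ^ j := by
    rw [hj]; group
  have hcj : a ^ j * a = a * a ^ j := by
    rw [← zpow_add_one, ← zpow_one_add, add_comm]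
  rw [hg]
  calc h1 ^ 2 * h2 ^ 2 * a ^ j * a = h1 ^ 2 * h2 ^ 2 * (a ^ j * a) := by group
    _ = h1 ^ 2 * h2 ^ 2 * (a * a ^ j) := by rw [hcj]
    _ = h1 ^ 2 * (h2 ^ 2 * a) * a ^ j := by group
    _ = h1 ^ 2 * (a * h2 ^ 2) * a ^ j := by rw [hsqc h2]
    _ = (h1 ^ 2 * a) * h2 ^ 2 * a ^ j := by group
    _ = (a * h1 ^ 2) * h2 ^ 2 * a ^ j := by rw [hsqc h1]
    _ = a * (h1 ^ 2 * h2 ^ 2 * a ^ j) := by group

/-- the case `|G| = 48` is impossible -/
theorem P2C_case48 {G : Type u} [Group G] [Finite G] (hU : PU G)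
    (f : G →* alternatingGroup (Fin 4)) (hf : Function.Surjective f) (hc : Nat.card G = 48)
    (a : G) (ha : a ∈ f.ker) (ha4 : orderOf a = 4) : False := by
  classical
  haveI : Fact (Nat.Prime 2) := ⟨Nat.prime_two⟩
  have hker4 : Nat.card f.ker = 4 := by
    have h1 := P2C_card_ker f hf
    omega
  have hker : f.ker = Subgroup.zpowers a := by
    symm
    apply Subgroup.eq_of_le_of_card_ge
    · rw [Subgroup.zpowers_le]; exact ha
    · rw [Nat.card_zpowers, ha4, hker4]
  have hcen := P2C_central_of_order_four f hf a ha4 hker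
  have hp2 : IsPGroup 2 f.ker := by
    apply IsPGroup.of_card (n := 2)
    rw [hker4]; norm_num
  obtain ⟨T, hT⟩ := hp2.exists_le_sylow
  have hTc : Nat.card (T : Subgroup G) = 16 := by
    have := P2C_sylow_card 2 T 4 3 (by rw [hc]; norm_num) (by norm_num)
    simpa using this
  rcases U1_pgroup hU 2 (T : Subgroup G) T.isPGroup' with hcyc | ⟨_, n, ⟨e⟩⟩
  · refine P2C_sylow_not_cyclic f (T : Subgroup G) ?_ ?_ hcyc
    · rw [hTc]
    · rw [hTc, hker4]; norm_num
  · have hn : n = 2 := by
      have h1 := Nat.card_congr e.toEquiv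
      rw [hTc] at h1
      have h2 : Nat.card (QuaternionGroup (2 ^ n)) = 4 * 2 ^ n := by
        haveI : NeZero (2 ^ n) := ⟨by positivity⟩
        rw [Nat.card_eq_fintype_card, QuaternionGroup.card]
      rw [h2] at h1
      have h3 : 2 ^ n = 2 ^ 2 := by omega
      exact Nat.pow_right_injective (le_refl 2) h3
    subst hn
    have e' : (T : Subgroup G) ≃* QuaternionGroup 4 := e
    have haT : a ∈ (T : Subgroup G) := hT ha
    have hz : ∀ x : QuaternionGroup 4, e' ⟨a, haT⟩ * x = x * e' ⟨a, haT⟩ := by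
      intro x
      obtain ⟨y, rfl⟩ := e'.surjective x
      rw [← map_mul, ← map_mul]
      congr 1
      apply Subtype.ext
      simp only [Subgroup.coe_mul]
      exact (hcen y).symm
    have h2 := P2C_Q16_center _ hz
    rw [← map_pow, e'.map_eq_one_iff] at h2
    have h3 : a ^ 2 = 1 := by
      have := congrArg Subtype.val h2
      simpa using this
    have h4 := orderOf_dvd_of_pow_eq_one h3
    rw [ha4] at h4
    omega

end Cfsg.Agent.S3361L
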