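import Mathlib
import Cfsg.Agent.Lib.S3361.P2CA
import Cfsg.Agent.Lib.S3358.U3

/-! # S3361 (P2c), part D (helper8): splitting off a normal Sylow subgroup of the kernel -/

set_option autoImplicit false
set_option linter.unusedVariables false
set_option linter.style.haveILetI false

namespace Cfsg.Agent.S3361L

open Cfsg.Agent.S3358L

universe u

/-- a normal subgroup `N` of order `p * m`, `0 < m < p`, contains a normal subgroup of `G` of
order `p` -/
theorem P2C_normal_sylow {G : Type u} [Group G] [Finite G] (N : Subgroup G) [hN : N.Normal]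
    (p m : ℕ) [hp : Fact p.Prime] (hm0 : 0 < m) (hmp : m < p) (hc : Nat.card N = p * m) :
    ∃ R : Subgroup G, R.Normal ∧ R ≤ N ∧ Nat.card R = p := by
  classical
  have hnd : ¬ p ∣ m := fun h => absurd (Nat.le_of_dvd hm0 h) (by omega)
  let P : Sylow p N := default
  have hP : Nat.card (P : Subgroup N) = p := by
    have := P2C_sylow_card p P 1 m (by rw [hc, pow_one]) hnd
    simpa using this
  have hidx : (P : Subgroup N).index = m := by
    have h1 := Subgroup.card_mul_index (P : Subgroup N)
    rw [hP, hc] at h1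
    exact Nat.eq_of_mul_eq_mul_left hp.out.pos h1
  have h1 : Nat.card (Sylow p N) ∣ m := by
    rw [← hidx]; exact Sylow.card_dvd_index P
  have h2 : Nat.card (Sylow p N) ≡ 1 [MOD p] := card_sylow_modEq_one p N
  have h3 : Nat.card (Sylow p N) ≤ m := Nat.le_of_dvd hm0 h1
  have h4 : Nat.card (Sylow p N) = 1 := by
    have h5 : Nat.card (Sylow p N) % p = 1 % p := h2
    rw [Nat.mod_eq_of_lt (by omega), Nat.mod_eq_of_lt hp.out.one_lt] at h5
    exact h5
  haveI : Subsingleton (Sylow p N) := (Nat.card_eq_one_iff_unique.mp h4).1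
  haveI : (P : Subgroup N).Characteristic := Sylow.characteristic_of_subsingleton P
  refine ⟨(P : Subgroup N).map N.subtype, ConjAct.normal_of_characteristic_of_normal, ?_, ?_⟩
  · exact Subgroup.map_subtype_le _
  · rw [Subgroup.card_map_of_injective N.subtype_injective, hP]

/-- the restriction of `f` to a complement of a subgroup of the kernel is still onto -/
theorem P2C_restrict_surj {G : Type u} [Group G] (f : G →* alternatingGroup (Fin 4))
    (hf : Function.Surjective f) (R L : Subgroup G) (hRL : R.IsComplement' L)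
    (hR : R ≤ f.ker) : Function.Surjective (f.comp L.subtype) := by
  intro y
  obtain ⟨g, rfl⟩ := hf y
  obtain ⟨⟨r, l⟩, hrl⟩ := hRL.2 g
  refine ⟨l, ?_⟩
  have h1 : (r : G) * (l : G) = g := hrl
  have h2 : f (r : G) = 1 := hR r.2
  rw [← h1, map_mul, h2, one_mul]
  rfl

/-- splitting: a normal subgroup `R` of order `p` inside `ker f` and a complement `L` -/
theorem P2C_split {G : Type u} [Group G] [Finite G] (hU : PU G)
    (f : G →* alternatingGroup (Fin 4)) (hf : Function.Surjective f)
    (p m : ℕ) [hp : Fact p.Prime] (hm0 : 0 < m) (hmp : m < p)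
    (hc : Nat.card G = p * (12 * m)) (hcop : ¬ p ∣ 12 * m) :
    ∃ R L : Subgroup G, R.Normal ∧ R ≤ f.ker ∧ Nat.card R = p ∧ R.IsComplement' L ∧
      Nat.card L = 12 * m ∧ PU L ∧ Function.Surjective (f.comp L.subtype) := by
  have hker : Nat.card f.ker = p * m := by
    have h1 := P2C_card_ker f hf
    rw [hc] at h1
    have : Nat.card f.ker * 12 = (p * m) * 12 := by rw [h1]; ring
    exact Nat.eq_of_mul_eq_mul_right (by norm_num) this
  obtain ⟨R, hRn, hRle, hRc⟩ := P2C_normal_sylow f.ker p m hm0 hmp hker
  haveI := hRn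
  have hidx : R.index = 12 * m := by
    have h1 := Subgroup.card_mul_index R
    rw [hRc, hc] at h1
    exact Nat.eq_of_mul_eq_mul_left hp.out.pos h1
  have hcop' : (Nat.card R).Coprime R.index := by
    rw [hRc, hidx]
    exact (Nat.Prime.coprime_iff_not_dvd hp.out).mpr hcop
  obtain ⟨L, hL⟩ := Subgroup.exists_right_complement'_of_coprime hcop'
  refine ⟨R, L, hRn, hRle, hRc, hL, ?_, (U3_subgroup L).1 hU, P2C_restrict_surj f hf R L hL hRle⟩
  have h1 := hL.card_mul_card
  rw [hRc, hc] at h1
  exact Nat.eq_of_mul_eq_mul_left hp.out.pos h1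

end Cfsg.Agent.S3361L
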